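import Groth.Agent.KRR40.EventReg
import Groth.Agent.KRR40.PushVB
import Groth.Agent.Kvb46.Local
import Groth.Agent.Var76.RegPres
import Groth.Agent.Pn71.Cohomology

/-!
Eventual vanishing and finite presentation of sections of twists of finite locally free modules on projective space
over any ring, and the consequences over any quasi-compact base.
-/

set_option autoImplicit false
set_option linter.style.haveILetI false
set_option backward.isDefEq.respectTransparency.types false
set_option maxSynthPendingDepth 6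

noncomputable section

universe u

open CategoryTheory CategoryTheory.Limits AlgebraicGeometry TopologicalSpace Opposite
open Groth.Agent.Var76.Reg

namespace Groth.Agent.K0Proj46

section General

variable {X : Scheme.{u}}

theorem isQCoh_of_flf {M : X.Modules} (h : FlatMod.IsFinLocFree M) : Coh.IsQCoh M :=
  Props58.LocFree.isQuasicoherent_of_isFinLocFree h

theorem isCoh_of_flf {M : X.Modules} (h : FlatMod.IsFinLocFree M) : Coh.IsCoh M :=
  ⟨Props58.LocFree.isQuasicoherent_of_isFinLocFree h, Props58.LocFree.isFiniteType_of_isFinLocFree h⟩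

/-- The kernel of an epimorphism of finite locally free modules is finite locally free. -/
theorem flf_X₁ {S : ShortComplex X.Modules} (hS : S.ShortExact) (h₂ : FlatMod.IsFinLocFree S.X₂)
    (h₃ : FlatMod.IsFinLocFree S.X₃) : FlatMod.IsFinLocFree S.X₁ := by
  haveI := hS.mono_f
  haveI : S.X₂.IsQuasicoherent := isQCoh_of_flf h₂
  haveI : S.X₃.IsQuasicoherent := isQCoh_of_flf h₃
  haveI := QC70.isQuasicoherent_X₁ S hS
  refine FlatMor68.LocFree.isFinLocFree_of_projective_sections _ fun x => ?_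
  obtain ⟨W, ⟨⟨k, ⟨b⟩⟩, ⟨l, ⟨c⟩⟩⟩, hxW, -⟩ := Kvb46.fine_freeOn h₂ h₃ x ⊤ trivial
  let a := QC70.appLinear S.f W.1
  let g := QC70.appLinear S.g W.1
  have ha : Function.Injective a := QC70.app_injective_of_mono S.f W.1
  have hg : Function.Surjective g := QC70.app_surjective_of_isAffineOpen S hS W.2
  have hag : Function.Exact a g := fun z =>
    ⟨fun hz => QC70.exists_app_eq_of_exact S hS.exact W.1 z hz, by rintro ⟨y, rfl⟩; exact QC70.app_f_g S W.1 y⟩
  haveI : Module.Projective Γ(X, W.1) Γ(S.X₂, W.1) := Module.Projective.of_basis b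
  haveI : Module.Finite Γ(X, W.1) Γ(S.X₂, W.1) := Module.Finite.of_basis b
  haveI : Module.Projective Γ(X, W.1) Γ(S.X₃, W.1) := Module.Projective.of_basis c
  obtain ⟨s, hs⟩ := Module.projective_lifting_property g LinearMap.id hg
  let e := (hag.splitSurjectiveEquiv ha ⟨s, hs⟩).1
  refine ⟨W.1, W.2, hxW, Module.Projective.of_split (e.symm.toLinearMap.comp (LinearMap.inl _ _ _))
      ((LinearMap.fst _ _ _).comp e.toLinearMap) (LinearMap.ext fun c => by simp),
    Module.Finite.of_surjective ((LinearMap.fst _ _ _).comp e.toLinearMap)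
      (Prod.fst_surjective.comp e.surjective)⟩

theorem flf_isInvertible {L : X.Modules} (hL : PicF.IsInvertible L) : FlatMod.IsFinLocFree L :=
  fun x => (Mero90.isFinLocFreeOfRank_of_isInvertible hL x).imp fun _ h => ⟨1, h⟩

theorem flf_twF (n : ℕ) (T : Scheme.{u}) {F : (KRR.PY n T).Modules} (hF : FlatMod.IsFinLocFree F) (d : ℤ) :
    FlatMod.IsFinLocFree (KRR.twF n T d F) :=
  Kvb46.isFinLocFree_tensor (flf_isInvertible (KRR40.isInvertible_twistOver n T d)) hF

theorem flf_biproduct {k : ℕ} (M : Fin k → X.Modules) (h : ∀ i, FlatMod.IsFinLocFree (M i)) :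
    FlatMod.IsFinLocFree (⨁ M) :=
  QC70.biproduct_induction (fun N => FlatMod.IsFinLocFree N) (fun _ hN => Kvb46.isFinLocFree_isZero hN)
    (fun S hS h₁ h₃ => Kvb46.isFinLocFree_of_shortExact S hS h₁ h₃) M h

end General

section Sections

variable (A : Type u) [CommRing A] {X : Scheme.{u}} [X.Over (Spec (CommRingCat.of A))]

/-- No first cohomology and finitely presented sections. -/
def Good1 (M : X.Modules) : Prop :=
  Subsingleton (Coh.HH X M 1) ∧
    Module.FinitePresentation A (Coh.HH X M 0)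

theorem surjective_hmap {S : ShortComplex X.Modules} (hS : S.ShortExact)
    (h : Subsingleton (Coh.HH X S.X₁ 1)) : Function.Surjective (Crv77.hmap A S.g 0) :=
  fun x => (Crv77.exact_g_δ A hS 0 x).1 (@Subsingleton.elim _ h _ _)

theorem injective_hmap {M N : X.Modules} (φ : M ⟶ N) [Mono φ] :
    Function.Injective (Crv77.hmap A φ 0) := fun x y h => by
  refine (Crv77.sec M).injective (QC70.app_injective_of_mono φ ⊤ ?_)
  rw [← Crv77.sec_hmap A φ x, ← Crv77.sec_hmap A φ y, h]

theorem good1_isZero {M : X.Modules} (h : IsZero M) : Good1 A M := by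
  haveI := ValVan29.subsingleton_hh_of_isZero h 0
  exact ⟨ValVan29.subsingleton_hh_of_isZero h 1,
    Module.finitePresentation_of_projective A (Coh.HH X M 0)⟩

theorem good1_X₂ {S : ShortComplex X.Modules} (hS : S.ShortExact) (h₁ : Good1 A S.X₁)
    (h₃ : Good1 A S.X₃) : Good1 A S.X₂ := by
  haveI := hS.mono_f
  refine ⟨ValVan29.subsingleton_hh_X₂ hS 1 h₁.1 h₃.1, ?_⟩
  haveI := h₁.2
  haveI := h₃.2
  have he : LinearMap.ker (Crv77.hmap A S.g 0) = LinearMap.range (Crv77.hmap A S.f 0) :=
    LinearMap.exact_iff.1 (Crv77.exact_f_g A hS 0)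
  let e : Coh.HH X S.X₁ 0 ≃ₗ[A] LinearMap.ker (Crv77.hmap A S.g 0) :=
    (LinearEquiv.ofInjective _ (injective_hmap A S.f)).trans (LinearEquiv.ofEq _ _ he.symm)
  haveI : Module.FinitePresentation A (LinearMap.ker (Crv77.hmap A S.g 0)) := Module.FinitePresentation.of_equiv e
  exact Module.finitePresentation_of_ker (Crv77.hmap A S.g 0) (surjective_hmap A hS h₁.1)

theorem good1_of_iso {M N : X.Modules} (e : M ≅ N) (h : Good1 A M) : Good1 A N := by
  refine ⟨ValVan29.subsingleton_hh_of_iso e 1 h.1, ?_⟩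
  haveI := h.2
  exact Module.FinitePresentation.of_equiv (LinearEquiv.ofLinearMap (Crv77.hmap A e.hom 0) (Crv77.hmap A e.inv 0)
    (LinearMap.ext fun x => by rw [LinearMap.comp_apply, Crv77.hmap_comp, e.inv_hom_id, Crv77.hmap_id]; rfl)
    (LinearMap.ext fun x => by rw [LinearMap.comp_apply, Crv77.hmap_comp, e.hom_inv_id, Crv77.hmap_id]; rfl))

end Sections

variable (n : ℕ) (A : Type u) [CommRing A]

/-- A resolution step by negative twists. -/
theorem exists_step (G : (CohB1.ProjSpace n A).Modules) (hG : FlatMod.IsFinLocFree G) :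
    ∃ (a k : ℕ) (p : (⨁ fun _ : Fin k => Twist.twistProjSpace n A (-(a : ℤ))) ⟶ G),
      Epi p ∧ FlatMod.IsFinLocFree (kernel p) := by
  classical
  obtain ⟨a, ha⟩ := Amp73.exists_epi_negative_twists (𝒜 := CohB1.polyGrading n A) _ (fun f hf => by
      obtain ⟨i, -, rfl⟩ := Finset.mem_image.1 hf
      exact MvPolynomial.isHomogeneous_X A i) (ValVan29.generated (R := A) (N := n)) G (isCoh_of_flf hG)
  obtain ⟨k, p, hp⟩ := ha a le_rfl
  let O : (CohB1.ProjSpace n A).Modules := Twist.twistProjSpace n A (-(a : ℤ))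
  let e : (⨁ fun _ : Fin k => O) ≅ (∐ fun _ : Fin k => O) := biproduct.isoCoproduct _
  let p' : (⨁ fun _ : Fin k => O) ⟶ G := e.hom ≫ p
  haveI : Epi p' := @epi_comp _ _ _ _ _ e.hom inferInstance p hp
  exact ⟨a, k, p', inferInstance, flf_X₁ (KData.kernel_shortExact p')
    (flf_biproduct _ fun _ => flf_isInvertible (Var76.Reg.isInvertible_twist _)) hG⟩

theorem twist_biproduct {k : ℕ} (M : Fin k → (CohB1.ProjSpace n A).Modules) (d : ℤ)
    (P : (CohB1.ProjSpace n A).Modules → Prop) (h0 : ∀ N, IsZero N → P N)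
    (hext : ∀ S : ShortComplex (CohB1.ProjSpace n A).Modules, S.ShortExact → P S.X₁ → P S.X₃ → P S.X₂)
    (h : ∀ i, P (CohB1.tensorMod (M i) (Twist.twistProjSpace n A d))) :
    P (CohB1.tensorMod (⨁ M) (Twist.twistProjSpace n A d)) := by
  refine QC70.biproduct_induction (fun N => P (CohB1.tensorMod N (Twist.twistProjSpace n A d)))
    (fun N hN => h0 _ (ValVan29.isZero_tensorMod hN (Var76.Reg.isInvertible_twist d)))
    (fun S hS h₁ h₃ => ?_) M h
  obtain ⟨T, hT, e1, e2, e3⟩ := Crv77.shortExact_twist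
    (Mero90.isFinLocFreeOfRank_of_isInvertible (Var76.Reg.isInvertible_twist (n := n) (A := A) d)) hS
  rw [← e2]
  exact hext T hT (e1 ▸ h₁) (e3 ▸ h₃)

/-- Eventual vanishing in one degree, by descending induction. -/
theorem exists_vanish_deg : ∀ (j : ℕ) (G : (CohB1.ProjSpace n A).Modules), FlatMod.IsFinLocFree G → ∀ q : ℕ, 1 ≤ q →
    n + 1 ≤ q + j → ∃ J : ℤ, ∀ d : ℤ, J ≤ d → Subsingleton (Coh.HH _ (tw n A G d) q) := by
  intro j
  induction j with
  | zero => exact fun G hG q _ hq => ⟨0, fun d _ => subsingleton_hh_gt n A _ (isQCoh_tw n A G (isQCoh_of_flf hG) d) q (by omega)⟩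
  | succ j ih =>
    intro G hG q hq hqj
    obtain ⟨a, k, p, hp, hK⟩ := exists_step n A G hG
    haveI := hp
    obtain ⟨J, hJ⟩ := ih (kernel p) hK (q + 1) (by omega) (by omega)
    refine ⟨max J a, fun d hd => ?_⟩
    obtain ⟨T, hT, h1, h2, h3⟩ := Crv77.shortExact_twist
      (Mero90.isFinLocFreeOfRank_of_isInvertible (Var76.Reg.isInvertible_twist (n := n) (A := A) d))
      (KData.kernel_shortExact p)
    show Subsingleton (Coh.HH _ (CohB1.tensorMod G (Twist.twistProjSpace n A d)) q)
    rw [← h3]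
    refine ValVan29.subsingleton_hh_X₃ hT q ?_ (h1 ▸ hJ d (le_of_max_le_left hd))
    rw [h2]
    refine twist_biproduct n A _ d (fun M => Subsingleton (Coh.HH _ M q))
      (fun M h => ValVan29.subsingleton_hh_of_isZero h q)
      (fun S hS h₁ h₃ => ValVan29.subsingleton_hh_X₂ hS q h₁ h₃) fun _ => ?_
    obtain ⟨t⟩ := EGA73.nonempty_twist_tensor_iso (𝒜 := CohB1.polyGrading n A) (hgen n A) (-(a : ℤ)) d
    refine ValVan29.subsingleton_hh_of_iso t.symm q ?_
    exact Pn71.subsingleton_hh n A (-(a : ℤ) + d) q (fun h => by omega) (fun h => by omega)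

/-- Serre vanishing over any ring. -/
theorem exists_vanish (G : (CohB1.ProjSpace n A).Modules) (hG : FlatMod.IsFinLocFree G) :
    ∃ J : ℤ, ∀ d : ℤ, J ≤ d → ∀ q : ℕ, 1 ≤ q → Subsingleton (Coh.HH _ (tw n A G d) q) := by
  choose J hJ using fun q : Fin n => exists_vanish_deg n A n G hG (q + 1) (by omega) (by omega)
  obtain ⟨B, hB⟩ := Finite.exists_le J
  refine ⟨B, fun d hd q hq => ?_⟩
  rcases le_or_gt q n with h | h
  · obtain ⟨i, rfl⟩ : ∃ i, q = i + 1 := ⟨q - 1, by omega⟩
    exact hJ ⟨i, by omega⟩ d ((hB _).trans hd)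
  · exact subsingleton_hh_gt n A _ (isQCoh_tw n A G (isQCoh_of_flf hG) d) q h

theorem good1_twist (e : ℤ) (he : 0 ≤ e) : Good1 A (X := CohB1.ProjSpace n A) (Twist.twistProjSpace n A e) := by
  refine ⟨Pn71.subsingleton_hh n A e 1 (fun h => by omega) (fun h => by omega), ?_⟩
  let S := Pn71.posCell (ι := Fin (n + 1)) e
  haveI : Finite S := (Pn71.finite_posCell e).to_subtype
  haveI : Module.FinitePresentation A (↥S →₀ A) := Module.finitePresentation_of_projective A _
  exact Module.FinitePresentation.of_equiv ((Finsupp.supportedEquivFinsupp (M := A) (R := A) S).symm.trans (Pn71.hhZeroEquivNonneg n A e he).symm)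

/-- The sections of a large twist are a quotient of a finitely presented module by the sections of the kernel. -/
theorem exists_quotient (G : (CohB1.ProjSpace n A).Modules) (hG : FlatMod.IsFinLocFree G) :
    ∃ (K E : (CohB1.ProjSpace n A).Modules) (_ : FlatMod.IsFinLocFree K) (J : ℤ), ∀ d : ℤ, J ≤ d →
      ∃ (M : (CohB1.ProjSpace n A).Modules)
        (f : Coh.HH (CohB1.ProjSpace n A) (tw n A K d) 0 →ₗ[A] Coh.HH (CohB1.ProjSpace n A) M 0)
        (g : Coh.HH (CohB1.ProjSpace n A) M 0 →ₗ[A] Coh.HH (CohB1.ProjSpace n A) (tw n A G d) 0),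
        M = CohB1.tensorMod E (Twist.twistProjSpace n A d) ∧
        Module.FinitePresentation A (Coh.HH (CohB1.ProjSpace n A) M 0) ∧ Function.Surjective g ∧ Function.Exact f g := by
  obtain ⟨a, k, p, hp, hK⟩ := exists_step n A G hG
  haveI := hp
  obtain ⟨J, hJ⟩ := exists_vanish n A (kernel p) hK
  refine ⟨kernel p, ⨁ fun _ : Fin k => Twist.twistProjSpace n A (-(a : ℤ)), hK, max J a, fun d hd => ?_⟩
  obtain ⟨T, hT, h1, h2, h3⟩ := Crv77.shortExact_twist
    (Mero90.isFinLocFreeOfRank_of_isInvertible (Var76.Reg.isInvertible_twist (n := n) (A := A) d))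
    (KData.kernel_shortExact p)
  have hM : Good1 A T.X₂ := by
    rw [h2]
    refine twist_biproduct n A _ d (Good1 A) (fun _ h => good1_isZero A h)
      (fun S hS h₁ h₃ => good1_X₂ A hS h₁ h₃) fun _ => ?_
    obtain ⟨t⟩ := EGA73.nonempty_twist_tensor_iso (𝒜 := CohB1.polyGrading n A) (hgen n A) (-(a : ℤ)) d
    exact good1_of_iso A t.symm (good1_twist n A _ (by omega))
  have h1' : T.X₁ = tw n A (kernel p) d := h1
  have h3' : T.X₃ = tw n A G d := h3
  rw [← h1', ← h3']
  exact ⟨T.X₂, Crv77.hmap A T.f 0, Crv77.hmap A T.g 0, h2, hM.2,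
    surjective_hmap A hT (h1' ▸ hJ d (le_of_max_le_left hd) 1 le_rfl), Crv77.exact_f_g A hT 0⟩

theorem exists_finite (G : (CohB1.ProjSpace n A).Modules) (hG : FlatMod.IsFinLocFree G) :
    ∃ J : ℤ, ∀ d : ℤ, J ≤ d → Module.Finite A (Coh.HH (CohB1.ProjSpace n A) (tw n A G d) 0) := by
  obtain ⟨K, E, -, J, hJ⟩ := exists_quotient n A G hG
  refine ⟨J, fun d hd => ?_⟩
  obtain ⟨M, f, g, -, hM, hg, -⟩ := hJ d hd
  haveI := hM
  exact Module.Finite.of_surjective g hg

/-- Large twists have finitely presented flat sections. -/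
theorem exists_projective (G : (CohB1.ProjSpace n A).Modules) (hG : FlatMod.IsFinLocFree G) :
    ∃ J : ℤ, ∀ d : ℤ, J ≤ d → (∀ q : ℕ, 1 ≤ q → Subsingleton (Coh.HH _ (tw n A G d) q)) ∧
      Module.Finite A (Coh.HH (CohB1.ProjSpace n A) (tw n A G d) 0) ∧
        Module.Projective A (Coh.HH (CohB1.ProjSpace n A) (tw n A G d) 0) := by
  obtain ⟨K, E, hK, J, hJ⟩ := exists_quotient n A G hG
  obtain ⟨J', hJ'⟩ := exists_finite n A K hK
  obtain ⟨J'', hJ''⟩ := exists_vanish n A G hG
  refine ⟨max J (max J' J''), fun d hd => ?_⟩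
  simp only [max_le_iff] at hd
  obtain ⟨M, f, g, -, hM, hg, hfg⟩ := hJ d hd.1
  haveI := hM
  haveI := hJ' d hd.2.1
  haveI : Module.FinitePresentation A (Coh.HH (CohB1.ProjSpace n A) (tw n A G d) 0) :=
    Module.finitePresentation_of_surjective g hg (by
      rw [LinearMap.exact_iff.1 hfg, LinearMap.range_eq_map]
      exact Module.Finite.fg_top.map f)
  have hv := hJ'' d hd.2.2
  haveI := KRR40.flat_HH_zero n (A := A) (F := tw n A G d)
    (Kvb46.isFinLocFree_tensor hG (flf_isInvertible (Var76.Reg.isInvertible_twist d))) hv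
  exact ⟨hv, inferInstance, Module.Flat.projective_of_finitePresentation⟩

end Groth.Agent.K0Proj46
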