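import Groth.Agent.K0Proj46.Push
import Groth.Agent.Kvb46.Lambda

/-!
`K₀` of finite locally free modules on projective space over a quasi-compact scheme.
-/

set_option autoImplicit false
set_option linter.style.haveILetI false
set_option backward.isDefEq.respectTransparency.types false
set_option maxSynthPendingDepth 6

noncomputable section

universe v u

open CategoryTheory CategoryTheory.Limits AlgebraicGeometry
open Groth.Agent.KRR40
open scoped ZeroObject

namespace Groth.Agent.K0Proj46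

variable {n : ℕ} {T : Scheme.{u}}

local notation "clv" => Kvb46.cl

theorem twF_eq (d : ℤ) (F : (KRR.PY n T).Modules) :
    CohB1.tensorMod (Twist.twistOver n T d) F = KRR.twF n T d F := rfl

/-- Twisting classes. -/
def TW (n : ℕ) (T : Scheme.{u}) (d : ℤ) : SGA6.Kvb (KRR.PY n T) →+ SGA6.Kvb (KRR.PY n T) :=
  Kvb46.mulBy (Twist.twistOver n T d) (flf_isInvertible (isInvertible_twistOver n T d))

theorem TW_cl (d : ℤ) {F : (KRR.PY n T).Modules} (hF : FlatMod.IsFinLocFree F) :
    TW n T d (clv F) = clv (KRR.twF n T d F) :=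
  Kvb46.mulBy_cl _ hF

theorem TW_TW (a b : ℤ) (x : SGA6.Kvb (KRR.PY n T)) : TW n T a (TW n T b x) = TW n T (a + b) x :=
  DFunLike.congr_fun (Kvb46.hom_ext_vb (g := (TW n T a).comp (TW n T b)) (g' := TW n T (a + b)) fun F hF => by
    obtain ⟨e⟩ := nonempty_twF_twF n T a b F
    show TW n T a (TW n T b (clv F)) = _
    rw [TW_cl b hF, TW_cl a (flf_twF n T hF b), TW_cl (a + b) hF]
    exact Kvb46.cl_iso e (flf_twF n T (flf_twF n T hF b) a)) x

theorem TW_zero (x : SGA6.Kvb (KRR.PY n T)) : TW n T 0 x = x :=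
  DFunLike.congr_fun (Kvb46.hom_ext_vb (g := TW n T 0) (g' := AddMonoidHom.id _) fun F hF => by
    obtain ⟨e⟩ := nonempty_twF_zero n T F
    rw [TW_cl 0 hF]
    exact Kvb46.cl_iso e (flf_twF n T hF 0)) x

/-- Inverse image of classes. -/
def PL (n : ℕ) (T : Scheme.{u}) : SGA6.Kvb T →+ SGA6.Kvb (KRR.PY n T) :=
  Kvb46.homVb (fun N => clv ((Scheme.Modules.pullback (KRR.pr n T)).obj N)) fun _ hS h₁ h₂ h₃ =>
    Kvb46.cl_add _ (shortExact_pullback (KRR.pr n T) hS h₃) (vb_pullback _ h₁) (vb_pullback _ h₂) (vb_pullback _ h₃)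

theorem PL_cl {N : T.Modules} (hN : FlatMod.IsFinLocFree N) :
    PL n T (clv N) = clv ((Scheme.Modules.pullback (KRR.pr n T)).obj N) :=
  Kvb46.homVb_cl _ _ hN

theorem cl_isZero {X : Scheme.{u}} {M : X.Modules} (h : IsZero M) : (clv M : SGA6.Kvb X) = 0 := by
  let S : ShortComplex X.Modules := ShortComplex.mk (𝟙 M) (0 : M ⟶ M) comp_zero
  have hS : S.ShortExact :=
    { exact := ShortComplex.exact_of_isZero_X₂ _ h
      epi_g := ⟨fun g h' _ => h.eq_of_src g h'⟩ }
  have := Kvb46.cl_add S hS (Kvb46.isFinLocFree_isZero h) (Kvb46.isFinLocFree_isZero h)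
    (Kvb46.isFinLocFree_isZero h)
  exact left_eq_add.1 this

section Rel

variable {Γ : Type v} [AddCommGroup Γ]

/-- The relation between the twists, for an additive function. -/
theorem rel (Q : AltData (KRR.PY n T).Modules Γ) (F : (KRR.PY n T).Modules)
    (hP : ∀ d : ℤ, 0 ≤ d → ∀ M, Nonempty (M ≅ KRR.twF n T d F) → Q.P₁ M ∧ Q.P₂ M)
    (g : ℤ → Γ) (hg : ∀ d : ℤ, 0 ≤ d → ∀ M, Nonempty (M ≅ KRR.twF n T d F) → Q.f M = g d) :
    iterDiff g (n + 1) 0 = 0 := by
  have e : ∀ d, Nonempty ((coneDataT n T F).G d ≅ KRR.twF n T d F) := fun d => ⟨EGA73.tensComm _ _⟩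
  have := (coneDataT n T F).iterDiff_eq_zero Q (fun d hd => hP d hd _ (e d)) (List.finRange (n + 1)) 0 le_rfl
    (acyclic_kos F 0)
  rw [List.length_finRange] at this
  rw [← this]
  exact iterDiff_congr _ _ fun d hd _ => (hg d hd _ (e d)).symm

theorem iterDiff_mem (H : AddSubgroup Γ) (g : ℤ → Γ) : ∀ (k : ℕ) (d : ℤ),
    (∀ e, d ≤ e → g e ∈ H) → iterDiff g k d ∈ H
  | 0, d, h => h d le_rfl
  | k + 1, d, h => H.sub_mem (iterDiff_mem H g k (d + 1) fun e he => h e (by omega)) (iterDiff_mem H g k d h)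

end Rel

/-- The relation between the classes of the twists. -/
theorem cl_eq_iterDiff {F : (KRR.PY n T).Modules} (hF : FlatMod.IsFinLocFree F) :
    clv F = (-1 : ℤ) ^ n • iterDiff (fun e => if e = 0 then 0 else clv (KRR.twF n T e F)) (n + 1) 0 := by
  let Q : AltData (KRR.PY n T).Modules (SGA6.Kvb (KRR.PY n T)) :=
    { P₁ := fun M => FlatMod.IsFinLocFree M
      P₂ := fun _ => True
      f := fun M => clv M
      zero₁ := fun _ h => Kvb46.isFinLocFree_isZero h
      zero₂ := fun _ _ => trivial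
      left₁ := fun _ hS h₂ h₃ => flf_X₁ hS h₂ h₃
      right₂ := fun _ _ _ _ => trivial
      ext₁ := fun S hS h₁ h₃ => Kvb46.isFinLocFree_of_shortExact S hS h₁ h₃
      ext₂ := fun _ _ _ _ => trivial
      add := fun S hS h₁ h₂ h₃ => Kvb46.cl_add S hS h₁.1 h₂.1 h₃.1 }
  have hiso : ∀ d : ℤ, ∀ M, Nonempty (M ≅ KRR.twF n T d F) → FlatMod.IsFinLocFree M := fun d M hM =>
    Kvb46.isFinLocFree_iso hM.some.symm (flf_twF n T hF d)
  have key := rel Q F (fun d _ M hM => ⟨hiso d M hM, trivial⟩) (fun d => clv (KRR.twF n T d F))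
    fun d _ M hM => Kvb46.cl_iso hM.some (hiso d M hM)
  obtain ⟨e⟩ := nonempty_twF_zero n T F
  exact ((eq_of_iterDiff_eq_zero _ n key).trans (Kvb46.cl_iso e (flf_twF n T hF 0))).symm

/-- No higher direct images in the twists from `m` on. -/
def AcyM (n : ℕ) (T : Scheme.{u}) (m : ℕ) (F : (KRR.PY n T).Modules) : Prop :=
  FlatMod.IsFinLocFree F ∧ ∀ d : ℤ, (m : ℤ) ≤ d → ∀ i : ℕ, 1 ≤ i → Van n T F i d

theorem AcyM.acy {F : (KRR.PY n T).Modules} (h : AcyM n T 0 F) : Acy n T F :=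
  fun d hd => h.2 d (by simpa using hd)

theorem AcyM.mono {F : (KRR.PY n T).Modules} {m m' : ℕ} (h : AcyM n T m F) (hm : m ≤ m') : AcyM n T m' F :=
  ⟨h.1, fun d hd => h.2 d (by omega)⟩

theorem AcyM.twF {F : (KRR.PY n T).Modules} {m : ℕ} (h : AcyM n T (m + 1) F) {e : ℤ} (he : 1 ≤ e) :
    AcyM n T m (KRR.twF n T e F) :=
  ⟨flf_twF n T h.1 e, fun d hd i hi => (van_twF_iff n T F rfl).2 (h.2 (d + e) (by push_cast; omega) i hi)⟩

theorem acyM_zero {F : (KRR.PY n T).Modules} (hF : FlatMod.IsFinLocFree F) (h : Acy n T F) : AcyM n T 0 F :=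
  ⟨hF, fun d hd => h d (by simpa using hd)⟩

/-- The class of the direct image, by descending twists. -/
def pcl (n : ℕ) (T : Scheme.{u}) : ℕ → (KRR.PY n T).Modules → SGA6.Kvb T
  | 0, F => Kvb46.cl ((pushF n T).obj F)
  | m + 1, F => (-1 : ℤ) ^ n • iterDiff (fun e => if e = 0 then 0 else pcl n T m (KRR.twF n T e F)) (n + 1) 0

variable [CompactSpace T]

theorem cl_push_add (S : ShortComplex (KRR.PY n T).Modules) (hS : S.ShortExact)
    (h₁ : FlatMod.IsFinLocFree S.X₁ ∧ Acy n T S.X₁) (h₂ : FlatMod.IsFinLocFree S.X₂ ∧ Acy n T S.X₂)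
    (h₃ : FlatMod.IsFinLocFree S.X₃ ∧ Acy n T S.X₃) :
    clv ((pushF n T).obj S.X₂) = clv ((pushF n T).obj S.X₁) + clv ((pushF n T).obj S.X₃) :=
  Kvb46.cl_add (S.map (pushF n T)) (shortExact_push hS h₁.2) (flf_push h₁.1 h₁.2) (flf_push h₂.1 h₂.2)
    (flf_push h₃.1 h₃.2)

theorem pcl_add : ∀ (m : ℕ) (S : ShortComplex (KRR.PY n T).Modules), S.ShortExact →
    AcyM n T m S.X₁ → AcyM n T m S.X₂ → AcyM n T m S.X₃ →
    pcl n T m S.X₂ = pcl n T m S.X₁ + pcl n T m S.X₃
  | 0, S, hS, h₁, h₂, h₃ => cl_push_add S hS ⟨h₁.1, h₁.acy⟩ ⟨h₂.1, h₂.acy⟩ ⟨h₃.1, h₃.acy⟩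
  | m + 1, S, hS, h₁, h₂, h₃ => by
    simp only [pcl, ← smul_add, ← iterDiff_add]
    congr 1
    refine iterDiff_congr _ _ fun e he _ => ?_
    split
    · rw [add_zero]
    · exact pcl_add m (S.map (DCoh.tensorBi.obj (Twist.twistOver n T e)))
        (KRR40.shortExact_tensor (flat_stalk_of_isInvertible (isInvertible_twistOver n T e)) hS)
        (h₁.twF (by omega)) (h₂.twF (by omega)) (h₃.twF (by omega))

theorem pcl_succ : ∀ (m : ℕ) {F : (KRR.PY n T).Modules}, AcyM n T m F → pcl n T (m + 1) F = pcl n T m F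
  | 0, F, h => by
    let Q : AltData (KRR.PY n T).Modules (SGA6.Kvb T) :=
      { P₁ := fun M => FlatMod.IsFinLocFree M
        P₂ := Acy n T
        f := fun M => clv ((pushF n T).obj M)
        zero₁ := fun _ h => Kvb46.isFinLocFree_isZero h
        zero₂ := fun _ h => acy_of_isZero h
        left₁ := fun _ hS h₂ h₃ => flf_X₁ hS h₂ h₃
        right₂ := fun _ hS h₁ h₂ => acy_X₃ hS h₁ h₂
        ext₁ := fun S hS h₁ h₃ => Kvb46.isFinLocFree_of_shortExact S hS h₁ h₃
        ext₂ := fun _ hS h₁ h₃ => acy_X₂ hS h₁ h₃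
        add := cl_push_add }
    have hP : ∀ d : ℤ, 0 ≤ d → ∀ M, Nonempty (M ≅ KRR.twF n T d F) → FlatMod.IsFinLocFree M ∧ Acy n T M :=
      fun d hd M hM => ⟨Kvb46.isFinLocFree_iso hM.some.symm (flf_twF n T h.1 d),
        (h.acy.twF hd).of_iso hM.some.symm⟩
    have key := rel Q F hP (fun d => pcl n T 0 (KRR.twF n T d F)) fun d hd M hM =>
      Kvb46.cl_iso ((pushF n T).mapIso hM.some) (flf_push (hP d hd M hM).1 (hP d hd M hM).2)
    refine (eq_of_iterDiff_eq_zero _ n key).trans ?_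
    obtain ⟨e⟩ := nonempty_twF_zero n T F
    exact Kvb46.cl_iso ((pushF n T).mapIso e) (flf_push (flf_twF n T h.1 0) (h.acy.twF le_rfl))
  | m + 1, F, h => by
    show (-1 : ℤ) ^ n • iterDiff _ (n + 1) 0 = (-1 : ℤ) ^ n • iterDiff _ (n + 1) 0
    congr 1
    refine iterDiff_congr _ _ fun e he _ => ?_
    split
    · rfl
    · exact pcl_succ m (h.twF (by omega))

theorem pcl_le {F : (KRR.PY n T).Modules} {m m' : ℕ} (h : AcyM n T m F) (hle : m ≤ m') :
    pcl n T m' F = pcl n T m F := by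
  induction m', hle using Nat.le_induction with
  | base => rfl
  | succ k hk ih => rw [pcl_succ k (h.mono hk), ih]

theorem exists_acyM {F : (KRR.PY n T).Modules} (hF : FlatMod.IsFinLocFree F) : ∃ m, AcyM n T m F := by
  obtain ⟨J, hJ⟩ := exists_eventually hF
  exact ⟨J.toNat, hF, fun d hd => (hJ d (by omega)).1⟩

open scoped Classical in
/-- The push-forward on classes. -/
def PC (n : ℕ) (T : Scheme.{u}) [CompactSpace T] : SGA6.Kvb (KRR.PY n T) →+ SGA6.Kvb T :=
  Kvb46.homVb (fun F => if h : FlatMod.IsFinLocFree F then pcl n T (exists_acyM h).choose F else 0)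
    fun S hS h₁ h₂ h₃ => by
      rw [dif_pos h₁, dif_pos h₂, dif_pos h₃]
      have r₁ := (exists_acyM h₁).choose_spec
      have r₂ := (exists_acyM h₂).choose_spec
      have r₃ := (exists_acyM h₃).choose_spec
      let M := (exists_acyM h₁).choose + (exists_acyM h₂).choose + (exists_acyM h₃).choose
      rw [← pcl_le r₁ (show _ ≤ M by omega), ← pcl_le r₂ (show _ ≤ M by omega), ← pcl_le r₃ (show _ ≤ M by omega)]
      exact pcl_add M S hS (r₁.mono (by omega)) (r₂.mono (by omega)) (r₃.mono (by omega))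

theorem PC_cl {F : (KRR.PY n T).Modules} (hF : FlatMod.IsFinLocFree F) (h : Acy n T F) :
    PC n T (clv F) = clv ((pushF n T).obj F) := by
  rw [PC, Kvb46.homVb_cl _ _ hF, dif_pos hF, pcl_le (acyM_zero hF h) (Nat.zero_le _)]
  rfl

theorem acy_twist_pullback {N : T.Modules} (hN : FlatMod.IsFinLocFree N) {e : ℤ} (he : -(n : ℤ) ≤ e) :
    Acy n T (KRR.twF n T e ((Scheme.Modules.pullback (KRR.pr n T)).obj N)) := fun d hd i hi =>
  (van_twF_iff n T _ rfl).2 (van_pullback n T (isQCoh_of_flf hN) hi (by omega))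

theorem PC_PL (a : SGA6.Kvb T) : PC n T (PL n T a) = a :=
  DFunLike.congr_fun (Kvb46.hom_ext_vb (g := (PC n T).comp (PL n T)) (g' := AddMonoidHom.id _) fun N hN => by
    have hp := vb_pullback (KRR.pr n T) hN
    have hA : Acy n T ((Scheme.Modules.pullback (KRR.pr n T)).obj N) := fun d hd i hi =>
      van_pullback n T (isQCoh_of_flf hN) hi (by omega)
    show PC n T (PL n T (clv N)) = clv N
    rw [PL_cl hN, PC_cl hp hA]
    haveI := isIso_unit_vb n hN
    exact (Kvb46.cl_iso (asIso ((Scheme.Modules.pullbackPushforwardAdjunction (KRR.pr n T)).unit.app N)) hN).symm) a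

theorem PC_TW_PL {e : ℤ} (he : -(n : ℤ) ≤ e) (he' : e < 0) (a : SGA6.Kvb T) :
    PC n T (TW n T e (PL n T a)) = 0 :=
  DFunLike.congr_fun (Kvb46.hom_ext_vb (g := (PC n T).comp ((TW n T e).comp (PL n T))) (g' := 0) fun N hN => by
    have hp := vb_pullback (KRR.pr n T) hN
    show PC n T (TW n T e (PL n T (clv N))) = 0
    rw [PL_cl hN, TW_cl e hp, PC_cl (flf_twF n T hp e) (acy_twist_pullback hN he)]
    refine cl_isZero ?_
    let L := Twist.twistOver n T e
    obtain ⟨i, rfl⟩ : ∃ i : ℕ, e = -(i : ℤ) := ⟨(-e).toNat, by omega⟩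
    have h := isZero_push_twist_neg n T (i := i) (by omega) (by omega)
    have h' : IsZero ((pushF n T).obj L) := h.of_iso ((pushF n T).mapIso (EGA73.tensUnitRight L).symm)
    refine IsZero.of_iso ?_ (projIsoVB (KRR.pr n T) L hN).symm
    exact (Functor.map_isZero (DCoh.tensorBi.obj N) h').of_iso (EGA73.tensComm _ _)) a

/-- The map from the free module. -/
def Φ (n : ℕ) (T : Scheme.{u}) : (Fin (n + 1) → SGA6.Kvb T) →+ SGA6.Kvb (KRR.PY n T) :=
  ∑ i : Fin (n + 1), ((TW n T (-(i : ℤ))).comp (PL n T)).comp (Pi.evalAddMonoidHom (fun _ : Fin (n + 1) => SGA6.Kvb T) i)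

omit [CompactSpace T] in
theorem Φ_apply (a : Fin (n + 1) → SGA6.Kvb T) :
    Φ n T a = ∑ i : Fin (n + 1), TW n T (-(i : ℤ)) (PL n T (a i)) := by
  rw [Φ, AddMonoidHom.finsetSum_apply]
  rfl

theorem Φ_injective : Function.Injective (Φ n T) := by
  refine (injective_iff_map_eq_zero _).2 fun a ha => funext fun j => ?_
  obtain ⟨k, hk⟩ := j
  induction k using Nat.strong_induction_on with
  | _ k ih =>
    have h := congrArg (fun x => PC n T (TW n T (k : ℤ) x)) ha
    simp only [Φ_apply, map_sum, map_zero, TW_TW] at h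
    rw [Finset.sum_eq_single (⟨k, hk⟩ : Fin (n + 1))] at h
    · simpa [TW_zero, PC_PL] using h
    · intro i _ hi
      rcases lt_or_gt_of_ne (fun he => hi (Fin.ext he) : (i : ℕ) ≠ k) with hlt | hgt
      · rw [ih i hlt i.2, Pi.zero_apply, map_zero, map_zero, map_zero]
      · exact PC_TW_PL (by have := i.2; omega) (by omega) _
    · exact fun h => absurd (Finset.mem_univ _) h

omit [CompactSpace T] in
theorem mem_range_gen {i : ℕ} (hi : i ≤ n) (a : SGA6.Kvb T) :
    TW n T (-(i : ℤ)) (PL n T a) ∈ (Φ n T).range := by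
  classical
  refine ⟨Pi.single ⟨i, by omega⟩ a, ?_⟩
  rw [Φ_apply, Finset.sum_eq_single (⟨i, by omega⟩ : Fin (n + 1))]
  · rw [Pi.single_eq_same]
  · intro j _ hj
    rw [Pi.single_eq_of_ne hj, map_zero, map_zero]
  · exact fun h => absurd (Finset.mem_univ _) h

section Regular

variable {F : (KRR.PY n T).Modules} (hF : FlatMod.IsFinLocFree F) (hreg : KRR.IsRegSheaf n T F)

theorem acy_of_reg {M : (KRR.PY n T).Modules} (hM : Coh.IsQCoh M) (h : KRR.IsRegSheaf n T M) : Acy n T M :=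
  acy_of_rReg hM (m := 0) (by simpa using (rReg_zero_iff n T M).2 h) rfl

theorem flf_stage : ∀ i : ℕ, FlatMod.IsFinLocFree (stage n T F (isQCoh_of_flf hF) hreg i).1
  | 0 => hF
  | i + 1 => by
    have hi := flf_stage i
    exact flf_twF n T (flf_X₁ (counit_shortExact (stage n T F _ hreg i).2.1 (stage n T F _ hreg i).2.2)
      (vb_pullback _ (flf_push hi (acy_of_reg (stage n T F _ hreg i).2.1 (stage n T F _ hreg i).2.2))) hi) 1

theorem mem_range_stage : ∀ (k i : ℕ), n + 1 ≤ i + k →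
    clv (KRR.twF n T (-(i : ℤ)) (stage n T F (isQCoh_of_flf hF) hreg i).1) ∈ (Φ n T).range := by
  intro k
  induction k with
  | zero =>
    intro i hi
    have h0 : clv (KRR.twF n T (-(i : ℤ)) (stage n T F (isQCoh_of_flf hF) hreg i).1) = 0 :=
      cl_isZero (Functor.map_isZero (DCoh.tensorBi.obj (Twist.twistOver n T (-(i : ℤ))))
        (isZero_stage n T (isQCoh_of_flf hF) hreg i (by omega)))
    rw [h0]
    exact zero_mem _
  | succ k ih =>
    intro i hi
    rcases le_or_gt i n with hin | hin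
    swap
    · exact ih i (by omega)
    let M := (stage n T F (isQCoh_of_flf hF) hreg i).1
    have hM : FlatMod.IsFinLocFree M := flf_stage hF hreg i
    have hpush : FlatMod.IsFinLocFree ((pushF n T).obj M) := flf_push hM
      (acy_of_reg (stage n T F (isQCoh_of_flf hF) hreg i).2.1 (stage n T F (isQCoh_of_flf hF) hreg i).2.2)
    have hQ : FlatMod.IsFinLocFree ((Scheme.Modules.pullback (KRR.pr n T)).obj ((pushF n T).obj M)) :=
      vb_pullback _ hpush
    have hK : FlatMod.IsFinLocFree (kernel (cou n T M)) :=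
      flf_X₁ (counit_shortExact (stage n T F (isQCoh_of_flf hF) hreg i).2.1
        (stage n T F (isQCoh_of_flf hF) hreg i).2.2) hQ hM
    have h : clv (KRR.twF n T (-(i : ℤ)) ((Scheme.Modules.pullback (KRR.pr n T)).obj ((pushF n T).obj M))) =
        clv (KRR.twF n T (-(i : ℤ)) (kernel (cou n T M))) + clv (KRR.twF n T (-(i : ℤ)) M) :=
      Kvb46.cl_add _ (shortExact_stage n T (isQCoh_of_flf hF) hreg i (-(i : ℤ))) (flf_twF n T hK _)
        (flf_twF n T hQ _) (flf_twF n T hM _)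
    rw [eq_sub_of_add_eq' h.symm]
    refine sub_mem ?_ ?_
    · rw [← TW_cl _ hQ, ← PL_cl hpush]
      exact mem_range_gen hin _
    · rw [← Kvb46.cl_iso (stageIso n T (isQCoh_of_flf hF) hreg i)
        (flf_twF n T (flf_stage hF hreg (i + 1)) _)]
      exact ih (i + 1) (by omega)

include hF hreg in
theorem mem_range_of_reg : clv F ∈ (Φ n T).range := by
  have h := mem_range_stage hF hreg (n + 1) 0 (by omega)
  obtain ⟨e⟩ := nonempty_twF_zero n T F
  rw [← Kvb46.cl_iso e (flf_twF n T hF 0)]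
  simpa [stage] using h

end Regular

theorem mem_range_of_rReg : ∀ (m : ℕ) {F : (KRR.PY n T).Modules}, FlatMod.IsFinLocFree F → RReg n T F (m : ℤ) →
    clv F ∈ (Φ n T).range
  | 0, F, hF, h => mem_range_of_reg hF ((rReg_zero_iff n T F).1 (by simpa using h))
  | m + 1, F, hF, h => by
    rw [cl_eq_iterDiff hF]
    refine AddSubgroup.zsmul_mem _ (iterDiff_mem _ _ _ _ fun e he => ?_) _
    split
    · exact zero_mem _
    · exact mem_range_of_rReg m (flf_twF n T hF e)
        ((rReg_twF_iff n T F e m).2 (h.mono (isQCoh_of_flf hF) (by push_cast; omega)))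

theorem Φ_surjective : Function.Surjective (Φ n T) := by
  have h : (QuotientAddGroup.mk' (Φ n T).range) = 0 := Kvb46.hom_ext_vb fun F hF => by
    obtain ⟨m, hm⟩ := exists_rReg (T := T) hF
    exact (QuotientAddGroup.eq_zero_iff _).2 (mem_range_of_rReg m hF hm)
  exact fun y => (QuotientAddGroup.eq_zero_iff y).1 (DFunLike.congr_fun h y)

/-- The classes of the twists `O, …, O(n)` form a basis. -/
theorem bijective_twists :
    Function.Bijective fun x : Fin (n + 1) → SGA6.Kvb T => ∑ i : Fin (n + 1), TW n T ((i : ℕ) : ℤ) (PL n T (x i)) := by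
  have h1 : Function.Bijective fun x : Fin (n + 1) → SGA6.Kvb T => x ∘ Fin.rev :=
    Function.Involutive.bijective fun x => funext fun i => by simp
  have h2 : Function.Bijective (TW n T (n : ℤ)) :=
    Function.bijective_iff_has_inverse.2 ⟨TW n T (-(n : ℤ)), fun x => by rw [TW_TW, neg_add_cancel, TW_zero],
      fun x => by rw [TW_TW, add_neg_cancel, TW_zero]⟩
  refine (congrArg Function.Bijective (funext fun x => ?_)).mp
    (h2.comp (Function.Bijective.comp ⟨Φ_injective, Φ_surjective⟩ h1))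
  show TW n T (n : ℤ) (Φ n T (x ∘ Fin.rev)) = _
  rw [Φ_apply, map_sum]
  refine Fintype.sum_equiv Fin.revPerm _ _ fun i => ?_
  rw [TW_TW, Fin.revPerm_apply, Function.comp_apply]
  congr 2
  rw [Fin.val_rev]
  have := i.2
  omega

end Groth.Agent.K0Proj46

namespace Groth.Agent.K0Proj46

open CategoryTheory CategoryTheory.Limits AlgebraicGeometry

/-- The value of an induced map on a class. -/
theorem mapSub_cl {X Y : Scheme.{u}} (F : X.Modules ⥤ Y.Modules) [F.Additive] [PreservesFiniteLimits F]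
    [PreservesFiniteColimits F]
    (h : ∀ M : X.Modules, FlatMod.IsFinLocFree M → FlatMod.IsFinLocFree (F.obj M)) {M : X.Modules}
    (hM : FlatMod.IsFinLocFree M) :
    SGA6.mapSub F (fun M : X.Modules => FlatMod.IsFinLocFree M) (fun M : Y.Modules => FlatMod.IsFinLocFree M) h
        (Kvb46.cl M) = Kvb46.cl (F.obj M) := by
  simp only [Kvb46.cl, KZero.clSub, dif_pos hM, dif_pos (h M hM)]
  rfl

end Groth.Agent.K0Proj46
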