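import Groth.Agent.K0Proj46.FinSections
import Groth.Agent.KRR40.BaseChange

/-!
Direct images of finite locally free modules on projective space over a quasi-compact base.
-/

set_option autoImplicit false
set_option linter.style.haveILetI false
set_option backward.isDefEq.respectTransparency.types false
set_option maxSynthPendingDepth 6

noncomputable section

universe v u

open CategoryTheory CategoryTheory.Limits AlgebraicGeometry TopologicalSpace Opposite
open Groth.Agent.Var76.Reg Groth.Agent.KRR40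
open scoped ZeroObject

namespace Groth.Agent.K0Proj46

variable {n : ℕ} {T : Scheme.{u}}

/-- The direct image. -/
abbrev pushF (n : ℕ) (T : Scheme.{u}) : (KRR.PY n T).Modules ⥤ T.Modules :=
  Scheme.Modules.pushforward (KRR.pr n T)

/-- Cohomology respects isomorphisms. -/
def hmapEquiv (A : Type u) [CommRing A] {X : Scheme.{u}} [X.Over (Spec (CommRingCat.of A))] {M N : X.Modules}
    (e : M ≅ N) : Coh.HH X M 0 ≃ₗ[A] Coh.HH X N 0 :=
  LinearEquiv.ofLinearMap (Crv77.hmap A e.hom 0) (Crv77.hmap A e.inv 0)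
    (LinearMap.ext fun x => by rw [LinearMap.comp_apply, Crv77.hmap_comp, e.inv_hom_id, Crv77.hmap_id]; rfl)
    (LinearMap.ext fun x => by rw [LinearMap.comp_apply, Crv77.hmap_comp, e.hom_inv_id, Crv77.hmap_id]; rfl)

theorem pullback_affPn_twF_iso {V : T.Opens} (hV : IsAffineOpen V) (d : ℤ) (F : (KRR.PY n T).Modules) :
    Nonempty ((Scheme.Modules.pullback (affPn n T hV)).obj (KRR.twF n T d F) ≅
      Var76.Reg.tw n Γ(T, V) ((Scheme.Modules.pullback (affPn n T hV)).obj F) d) := by
  obtain ⟨e⟩ := nonempty_pullback_affPn_twist n T hV d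
  exact ⟨TwTens96.pullTensIso (affPn n T hV) _ F ≪≫ EGA73.tensIso e (Iso.refl _) ≪≫ EGA73.tensComm _ _⟩

/-- Eventual vanishing over an affine open of the base and all its basic opens, and finite projective sections. -/
theorem exists_vanish_affine {F : (KRR.PY n T).Modules} (hF : FlatMod.IsFinLocFree F) {V : T.Opens}
    (hV : IsAffineOpen V) :
    ∃ J : ℤ, ∀ d : ℤ, J ≤ d → (∀ q : ℕ, 1 ≤ q → ∀ g : Γ(T, V),
      Subsingleton (Coh69.HE (Coh.toAb (KRR.twF n T d F)) q (KRR.pr n T ⁻¹ᵁ T.basicOpen g))) ∧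
      Module.Projective Γ(T, V) Γ((pushF n T).obj (KRR.twF n T d F), V) ∧
        Module.Finite Γ(T, V) Γ((pushF n T).obj (KRR.twF n T d F), V) := by
  let j := affPn n T hV
  obtain ⟨J, hJ⟩ := exists_projective n Γ(T, V) ((Scheme.Modules.pullback j).obj F) (vb_pullback j hF)
  refine ⟨J, fun d hd => ?_⟩
  obtain ⟨φ⟩ := pullback_affPn_twF_iso hV d F
  obtain ⟨hv, hfin, hproj⟩ := hJ d hd
  have hM : Coh.IsQCoh (KRR.twF n T d F) := isQCoh_twF n T F (isQCoh_of_flf hF) d
  haveI : (KRR.twF n T d F).IsQuasicoherent := hM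
  refine ⟨fun q hq g => ?_, ?_⟩
  · let ψ : (KRR.twF n T d F).restrict j ≅
        Var76.Reg.tw n Γ(T, V) ((Scheme.Modules.pullback j).obj F) d :=
      (Scheme.Modules.restrictFunctorIsoPullback j).app _ ≪≫ φ
    haveI : ((KRR.twF n T d F).restrict j).IsQuasicoherent :=
      (SheafOfModules.isQuasicoherent (CohB1.ProjSpace n Γ(T, V)).ringCatSheaf).prop_of_iso ψ.symm
        (isQCoh_tw n Γ(T, V) _ (isQCoh_of_flf (vb_pullback j hF)) d)
    have h0 : Subsingleton (Coh69.HE (Coh.toAb ((KRR.twF n T d F).restrict j)) q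
        (⊤ : (CohB1.ProjSpace n Γ(T, V)).Opens)) :=
      haveI := ValVan29.subsingleton_hh_of_iso ψ.symm q (hv q hq)
      (Coh69.hhEquiv ((KRR.twF n T d F).restrict j) q).symm.toEquiv.subsingleton
    haveI : CompactSpace (CohB1.ProjSpace n Γ(T, V)) :=
      haveI := Approx60.Segre.isProper_toSpec Γ(T, V) n
      QuasiCompact.compactSpace_of_compactSpace (CohB1.ProjSpace.toSpec n Γ(T, V))
    haveI : QuasiSeparatedSpace (CohB1.ProjSpace n Γ(T, V)) :=
      haveI := Approx60.Segre.isProper_toSpec Γ(T, V) n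
      quasiSeparatedSpace_of_quasiSeparated (CohB1.ProjSpace.toSpec n Γ(T, V))
    have hW : (j ≫ KRR.pr n T) ⁻¹ᵁ V = ⊤ := by
      rw [Scheme.Hom.comp_preimage, ← affPn_image_top n T hV, Scheme.Hom.preimage_image_eq]
    have h1 := FMK72.subsingleton_HE_preimage_basicOpen (j ≫ KRR.pr n T) ((KRR.twF n T d F).restrict j) q hW h0 g
    rw [FMK72.subsingleton_HE_restrict_iff, Scheme.Hom.comp_preimage, Scheme.Hom.image_preimage_eq_opensRange_inf,
      inf_eq_right.2 (((KRR.pr n T).preimage_mono (T.basicOpen_le g)).trans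
        (by rw [← Scheme.Hom.image_top_eq_opensRange, affPn_image_top]))] at h1
    exact h1
  · let e : Γ((pushF n T).obj (KRR.twF n T d F), V) ≃ₗ[Γ(T, V)]
        Coh.HH (CohB1.ProjSpace n Γ(T, V)) (Var76.Reg.tw n Γ(T, V) ((Scheme.Modules.pullback j).obj F) d) 0 :=
      (pushSecEquiv hV).trans (hmapEquiv Γ(T, V) φ)
    exact ⟨Module.Projective.of_equiv e.symm, Module.Finite.equiv e.symm⟩

/-- Large twists of a finite locally free module have no higher direct images and a finite locally free direct image. -/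
theorem exists_eventually [CompactSpace T] {F : (KRR.PY n T).Modules} (hF : FlatMod.IsFinLocFree F) :
    ∃ J : ℤ, ∀ d : ℤ, J ≤ d → (∀ i : ℕ, 1 ≤ i → Van n T F i d) ∧
      FlatMod.IsFinLocFree ((pushF n T).obj (KRR.twF n T d F)) := by
  classical
  choose V hV hyV using fun y : T => exists_isAffineOpen_mem_and_subset (show y ∈ (⊤ : T.Opens) from trivial)
  obtain ⟨s, hs⟩ := isCompact_univ.elim_finite_subcover (fun y => (V y : Set T)) (fun y => (V y).2)
    fun y _ => Set.mem_iUnion.2 ⟨y, (hyV y).1⟩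
  choose J hJ using fun y => exists_vanish_affine hF (hV y)
  obtain ⟨B, hB⟩ : ∃ B : ℤ, ∀ y ∈ s, J y ≤ B := by
    obtain ⟨B, hB⟩ := (s.image J).bddAbove
    exact ⟨B, fun y hy => hB (Finset.mem_image_of_mem J hy)⟩
  refine ⟨B, fun d hd => ⟨fun i hi => ?_, ?_⟩⟩
  · rcases le_or_gt (n + 1) i with h | h
    · haveI : (KRR.twF n T d F).IsQuasicoherent := isQCoh_twF n T F (isQCoh_of_flf hF) _
      exact isZero_RpushAb_gt n T _ i h
    · refine Coh69.isZero_RpushAb_of_subsingleton _ _ _ fun U y hy => ?_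
      obtain ⟨z, hz⟩ := Set.mem_iUnion.1 (hs (Set.mem_univ y))
      obtain ⟨hzs, hyz⟩ := Set.mem_iUnion.1 hz
      obtain ⟨g, hgU, hyg⟩ := (hV z).exists_basicOpen_le (⟨y, hy⟩ : U) hyz
      exact ⟨T.basicOpen g, hgU, hyg, (hJ z d ((hB z hzs).trans hd)).1 i hi g⟩
  · haveI : ((pushF n T).obj (KRR.twF n T d F)).IsQuasicoherent :=
      isQCoh_pushPr (isQCoh_twF n T F (isQCoh_of_flf hF) d)
    refine FlatMor68.LocFree.isFinLocFree_of_projective_sections _ fun y => ?_
    obtain ⟨z, hz⟩ := Set.mem_iUnion.1 (hs (Set.mem_univ y))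
    obtain ⟨hzs, hyz⟩ := Set.mem_iUnion.1 hz
    exact ⟨V z, hV z, hyz, (hJ z d ((hB z hzs).trans hd)).2⟩

theorem shortExact_push {S : ShortComplex (KRR.PY n T).Modules} (hS : S.ShortExact) (h₁ : Acy n T S.X₁) :
    (S.map (pushF n T)).ShortExact := by
  have h : ((S.map (pushF n T)).map (abFun T)).ShortExact :=
    pushSh_shortExact_of_isZero (KRR.pr n T).base (hS.map_of_exact (abFun (KRR.PY n T)))
      (h₁.isZero_Rpush 1 le_rfl)
  haveI : (abFun T).Faithful := inferInstanceAs (SheafOfModules.toSheaf T.ringCatSheaf).Faithful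
  exact { exact := (ShortComplex.exact_map_iff_of_faithful _ (abFun T)).1 h.exact
          mono_f := (abFun T).mono_of_mono_map h.mono_f
          epi_g := (abFun T).epi_of_epi_map h.epi_g }

section Kos

variable {A : Type u} [Category.{v} A] [Abelian A] {r : ℕ} (D : ConeData A r) {P : ObjectProperty A}
  [P.IsClosedUnderIsomorphisms]
  (h0 : ∀ X, IsZero X → P X) (hext : ∀ S : ShortComplex A, S.ShortExact → P S.X₁ → P S.X₃ → P S.X₂)

include h0 hext in
theorem kos_prop : ∀ (L : List (Fin r)) (d i : ℤ), (∀ e, d ≤ e → P (D.G e)) → P (((D.kos L).K d).X i)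
  | [], d, i, h => by
    by_cases hi : i = 0
    · subst hi
      exact P.prop_of_iso (HomologicalComplex.singleObjXSelf (ComplexShape.up ℤ) 0 (D.G d)).symm (h d le_rfl)
    · exact h0 _ (HomologicalComplex.isZero_single_obj_X (ComplexShape.up ℤ) 0 (D.G d) i hi)
  | a :: L, d, i, h => hext _ (coneSplit ((D.kos L).M a d (d + 1) rfl) i).shortExact
      (kos_prop L (d + 1) i fun e he => h e (by omega)) (kos_prop L d (i + 1) h)

include h0 hext in
/-- All terms but the first one only see the later members of the family. -/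
theorem kos_prop' : ∀ (L : List (Fin r)) (d i : ℤ), -(L.length : ℤ) < i → (∀ e, d + 1 ≤ e → P (D.G e)) →
    P (((D.kos L).K d).X i)
  | [], d, i, hi, _ => h0 _ (HomologicalComplex.isZero_single_obj_X (ComplexShape.up ℤ) 0 (D.G d) i (by simp at hi; omega))
  | a :: L, d, i, hi, h => hext _ (coneSplit ((D.kos L).M a d (d + 1) rfl) i).shortExact
      (kos_prop D h0 hext L (d + 1) i h) (kos_prop' L d (i + 1) (by simp at hi; omega) h)

/-- The first term is the first member of the family. -/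
theorem kos_first : ∀ (L : List (Fin r)) (d : ℤ), Nonempty (((D.kos L).K d).X (-(L.length : ℤ)) ≅ D.G d)
  | [], d => ⟨HomologicalComplex.singleObjXSelf (ComplexShape.up ℤ) 0 (D.G d)⟩
  | a :: L, d => by
    obtain ⟨e⟩ := kos_first L d
    let i : ℤ := -((a :: L).length : ℤ)
    have hz : IsZero (((D.kos L).K (d + 1)).X i) := D.isZero_kos_X L _ _ (Or.inl (by simp [i]))
    exact ⟨HomologicalComplex.homotopyCofiber.XIsoBiprod ((D.kos L).M a d (d + 1) rfl) i (i + 1) rfl ≪≫
      (isoBiprodZero hz).symm ≪≫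
      eqToIso (congrArg ((D.kos L).K d).X (show i + 1 = -(L.length : ℤ) by simp [i])) ≪≫ e⟩

end Kos

/-- Finite locally free modules without higher direct images whose direct image is finite locally free. -/
abbrev nice (n : ℕ) (T : Scheme.{u}) : ObjectProperty (KRR.PY n T).Modules :=
  fun M => Acy n T M ∧ FlatMod.IsFinLocFree M ∧ FlatMod.IsFinLocFree ((pushF n T).obj M)

instance : (nice n T).IsClosedUnderIsomorphisms :=
  ⟨fun e h => ⟨h.1.of_iso e, Kvb46.isFinLocFree_iso e h.2.1, Kvb46.isFinLocFree_iso ((pushF n T).mapIso e) h.2.2⟩⟩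

theorem nice_isZero {M : (KRR.PY n T).Modules} (h : IsZero M) : nice n T M :=
  ⟨acy_of_isZero h, Kvb46.isFinLocFree_isZero h, Kvb46.isFinLocFree_isZero ((pushF n T).map_isZero h)⟩

theorem nice_X₂ {S : ShortComplex (KRR.PY n T).Modules} (hS : S.ShortExact) (h₁ : nice n T S.X₁)
    (h₃ : nice n T S.X₃) : nice n T S.X₂ :=
  ⟨acy_X₂ hS h₁.1 h₃.1, Kvb46.isFinLocFree_of_shortExact S hS h₁.2.1 h₃.2.1,
    Kvb46.isFinLocFree_of_shortExact _ (shortExact_push hS h₁.1) h₁.2.2 h₃.2.2⟩

/-- The direct image is finite locally free if those of the positive twists are. -/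
theorem flf_push_step {F : (KRR.PY n T).Modules} (hF : FlatMod.IsFinLocFree F) (hA : Acy n T F)
    (hpos : ∀ e : ℤ, 1 ≤ e → FlatMod.IsFinLocFree ((pushF n T).obj (KRR.twF n T e F))) :
    FlatMod.IsFinLocFree ((pushF n T).obj F) := by
  let D := coneDataT n T F
  let N := n + 1
  let L := (D.kos (List.finRange N)).K 0
  have hL : L.Acyclic := acyclic_kos F 0
  have eG : ∀ d, Nonempty (D.G d ≅ KRR.twF n T d F) := fun d => ⟨EGA73.tensComm _ _⟩
  have hlen : (List.finRange N).length = N := List.length_finRange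
  let P : ObjectProperty (KRR.PY n T).Modules := fun M => Acy n T M
  haveI : P.IsClosedUnderIsomorphisms := ⟨fun e h => h.of_iso e⟩
  have hXA : ∀ i, Acy n T (L.X i) := fun i => kos_prop D (P := P) (fun _ h => acy_of_isZero h)
    (fun _ hS h₁ h₃ => acy_X₂ hS h₁ h₃) _ 0 i fun e he => (hA.twF he).of_iso (eG e).some.symm
  have hX : ∀ i : ℤ, -(N : ℤ) < i → nice n T (L.X i) := fun i hi =>
    kos_prop' D (P := nice n T) (fun _ h => nice_isZero h) (fun _ hS h₁ h₃ => nice_X₂ hS h₁ h₃) _ 0 i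
      (by rw [hlen]; exact hi) fun e he => (nice n T).prop_of_iso (eG e).some.symm
        ⟨hA.twF (by omega), flf_twF n T hF e, hpos e he⟩
  have hb : ∀ i : ℤ, i < -(N : ℤ) ∨ 0 < i → IsZero (L.X i) := fun i hi =>
    D.isZero_kos_X _ _ i (by rw [hlen]; exact hi)
  have hS : ∀ i, (CohDer42.FiniteDim.cycSC L i (i + 1)).ShortExact := fun i =>
    CohDer42.FiniteDim.shortExact_cycSC L i (i + 1) (by simp) (by simp) (hL _)
  have hlow : IsZero (L.cycles (-(N : ℤ))) := by
    have h := hS (-(N : ℤ) - 1)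
    rw [sub_add_cancel] at h
    have : Epi (L.toCycles (-(N : ℤ) - 1) (-(N : ℤ))) := h.epi_g
    exact IsZero.of_epi (L.toCycles (-(N : ℤ) - 1) (-(N : ℤ))) (hb _ (Or.inl (by omega)))
  have hcA : ∀ k : ℕ, Acy n T (L.cycles (-(N : ℤ) + k)) := by
    intro k
    induction k with
    | zero => exact acy_of_isZero (by simpa using hlow)
    | succ k ih =>
      have := acy_X₃ (hS (-(N : ℤ) + k)) ih (hXA _)
      rw [show -(N : ℤ) + ((k + 1 : ℕ) : ℤ) = -(N : ℤ) + k + 1 by omega]
      exact this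
  have hP : ∀ j : ℕ, j ≤ N → FlatMod.IsFinLocFree ((pushF n T).obj (L.cycles (1 - (j : ℤ)))) := by
    intro j
    induction j with
    | zero =>
      exact fun _ => Kvb46.isFinLocFree_isZero ((pushF n T).map_isZero (IsZero.of_mono (L.iCycles _)
        (hb _ (Or.inr (by norm_num)))))
    | succ j ih =>
      intro hj
      have hA' : Acy n T (L.cycles (1 - ((j + 1 : ℕ) : ℤ))) := by
        have := hcA (N - j)
        rwa [show -(N : ℤ) + ((N - j : ℕ) : ℤ) = 1 - ((j + 1 : ℕ) : ℤ) by omega] at this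
      refine flf_X₁ (shortExact_push (hS (1 - ((j + 1 : ℕ) : ℤ))) hA') (hX _ (by omega)).2.2 ?_
      show FlatMod.IsFinLocFree ((pushF n T).obj (L.cycles (1 - ((j + 1 : ℕ) : ℤ) + 1)))
      rw [show 1 - ((j + 1 : ℕ) : ℤ) + 1 = 1 - (j : ℤ) by omega]
      exact ih (by omega)
  have h1 : FlatMod.IsFinLocFree ((pushF n T).obj (L.cycles (-(N : ℤ) + 1))) := by
    have := hP N le_rfl
    rwa [show 1 - (N : ℤ) = -(N : ℤ) + 1 by omega] at this
  have h2 : FlatMod.IsFinLocFree ((pushF n T).obj (L.X (-(N : ℤ)))) :=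
    Kvb46.isFinLocFree_of_shortExact _ (shortExact_push (hS (-(N : ℤ))) (acy_of_isZero hlow))
      (Kvb46.isFinLocFree_isZero ((pushF n T).map_isZero hlow)) h1
  obtain ⟨e⟩ := kos_first D (List.finRange N) 0
  rw [hlen] at e
  obtain ⟨z⟩ := nonempty_twF_zero n T F
  exact Kvb46.isFinLocFree_iso ((pushF n T).mapIso (e ≪≫ (eG 0).some ≪≫ z)) h2

variable [CompactSpace T]

/-- The direct image of a finite locally free module without higher direct images is finite locally free. -/
theorem flf_push {F : (KRR.PY n T).Modules} (hF : FlatMod.IsFinLocFree F) (hA : Acy n T F) :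
    FlatMod.IsFinLocFree ((pushF n T).obj F) := by
  obtain ⟨J, hJ⟩ := exists_eventually hF
  have key : ∀ k : ℕ, ∀ d : ℤ, 0 ≤ d → J ≤ d + k → FlatMod.IsFinLocFree ((pushF n T).obj (KRR.twF n T d F)) := by
    intro k
    induction k with
    | zero => exact fun d _ hd => (hJ d (by simpa using hd)).2
    | succ k ih =>
      intro d hd0 hd
      refine flf_push_step (flf_twF n T hF d) (hA.twF hd0) fun e he => ?_
      obtain ⟨t⟩ := nonempty_twF_twF n T e d F
      exact Kvb46.isFinLocFree_iso ((pushF n T).mapIso t.symm) (ih (e + d) (by omega) (by push_cast at hd; omega))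
  obtain ⟨z⟩ := nonempty_twF_zero n T F
  exact Kvb46.isFinLocFree_iso ((pushF n T).mapIso z) (key J.toNat 0 le_rfl (by omega))

/-- Every finite locally free module is regular in some degree, and its large twists have no higher direct images. -/
theorem exists_rReg {F : (KRR.PY n T).Modules} (hF : FlatMod.IsFinLocFree F) :
    ∃ m : ℕ, RReg n T F m := by
  obtain ⟨J, hJ⟩ := exists_eventually hF
  refine ⟨(J + n + 1).toNat, fun i hi => ?_⟩
  rcases le_or_gt (n + 1) i with h | h
  · haveI : (KRR.twF n T (((J + n + 1).toNat : ℤ) - i) F).IsQuasicoherent :=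
      isQCoh_twF n T F (isQCoh_of_flf hF) _
    exact isZero_RpushAb_gt n T _ i h
  · exact (hJ _ (by omega)).1 i hi

theorem exists_acy {F : (KRR.PY n T).Modules} (hF : FlatMod.IsFinLocFree F) :
    ∃ m : ℕ, Acy n T (KRR.twF n T m F) := by
  obtain ⟨J, hJ⟩ := exists_eventually hF
  exact ⟨J.toNat, fun d hd i hi => (van_twF_iff n T F rfl).2 ((hJ _ (by omega)).1 i hi)⟩

end Groth.Agent.K0Proj46
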